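import Groth.Prelude.Def_CurvBase
import Groth.Prelude.Def_Mor2
import Groth.Agent.AmpleDesc.RelLimit
import Groth.Agent.AmpleFam.Pullback
import Groth.Agent.FibreIndCons.QProj
import Groth.Agent.LimLib.FGSub
import Groth.Agent.FpqcDesc.Props
import Groth.Agent.FBase.BC
import Mathlib.AlgebraicGeometry.Morphisms.FlatRank
import Mathlib.RingTheory.Jacobson.Ring

/-!
An ample module on a base change to a field extension gives an ample module on a finite locally
free cover of the scheme.
-/

set_option autoImplicit false
set_option backward.isDefEq.respectTransparency.types false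
set_option linter.style.haveILetI false

universe u

open CategoryTheory CategoryTheory.Limits AlgebraicGeometry Opposite

noncomputable section

namespace Groth.Agent.VarAmpleDesc

variable (k : Type u) [Field k] (X : Scheme.{u}) [X.Over (Spec (CommRingCat.of k))] (K : Type u)
  [Field K] [Algebra k K]

local notation "pX" => (X ↘ Spec (CommRingCat.of k))

/-- The spectrum of an algebra over the base field. -/
abbrev aMap (A : Type u) [CommRing A] [Algebra k A] : Spec (CommRingCat.of A) ⟶ Spec (CommRingCat.of k) :=
  Spec.map (CommRingCat.ofHom (algebraMap k A))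

lemma fpqc_aMap : FpqcDesc.FPQC (aMap k K) := by
  have hflat : Flat (aMap k K) := by
    rw [HasRingHomProperty.Spec_iff (P := @Flat)]
    exact RingHom.flat_algebraMap_iff.mpr inferInstance
  exact ⟨⟨FBase.BC.surjective_specMap, hflat⟩, inferInstance⟩

/-- A scheme with a separated base change along a field extension is separated. -/
theorem isSeparated_of_bc (h : (Curv2.bc k X K).IsSeparated) : X.IsSeparated := by
  haveI := FpqcDesc.descendsAlong_isSeparated.{u}
  haveI := h
  have : IsSeparated pX :=
    MorphismProperty.of_pullback_snd_of_descendsAlong (P := @IsSeparated) (Q := FpqcDesc.FPQC)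
      (f := pX) (fpqc_aMap k K) (inferInstance : IsSeparated (Curv2.bcSnd k X K))
  rw [Scheme.isSeparated_iff, ← terminal.comp_from pX]
  infer_instance

/-- A scheme with a quasi-compact base change along a field extension is quasi-compact. -/
theorem compactSpace_of_bc (h : CompactSpace (Curv2.bc k X K)) : CompactSpace X := by
  haveI := h
  haveI : Surjective (Curv2.bcFst k X K) :=
    MorphismProperty.pullback_fst _ _ FBase.BC.surjective_specMap
  exact (Curv2.bcFst k X K).surjective.compactSpace (Curv2.bcFst k X K).continuous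

lemma fgCone_π_aMap (i : (Finset K)ᵒᵖ) :
    (LimLib.fgCone k K).π.app i ≫ aMap k (Algebra.adjoin k (i.unop : Set K)) = aMap k K := by
  change Spec.map _ ≫ Spec.map _ = _
  rw [← Spec.map_comp]
  rfl

lemma fgDiagram_map_aMap {i j : (Finset K)ᵒᵖ} (φ : i ⟶ j) :
    (LimLib.fgDiagram k K).map φ ≫ aMap k (Algebra.adjoin k (j.unop : Set K)) =
      aMap k (Algebra.adjoin k (i.unop : Set K)) := by
  change Spec.map _ ≫ Spec.map _ = _
  rw [← Spec.map_comp]
  rfl

/-- An ample module on the base change gives one over a finitely generated subalgebra. -/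
theorem exists_isAmple_fg (L' : (Curv2.bc k X K).Modules) (hL' : CohB1.IsAmple L') :
    ∃ (s : Finset K) (M : (pullback pX (aMap k (Algebra.adjoin k (s : Set K)))).Modules),
      CohB1.IsAmple M := by
  haveI := hL'.2.1
  haveI := AmpleLib.isSeparated_of_isAmple hL'
  haveI := compactSpace_of_bc k X K inferInstance
  haveI := isSeparated_of_bc k X K inferInstance
  let D := LimLib.fgDiagram k K
  let c := LimLib.fgCone k K
  let i₀ : (Finset K)ᵒᵖ := op ∅
  let g₀ : pullback pX (aMap k (Algebra.adjoin k (i₀.unop : Set K))) ⟶ D.obj i₀ :=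
    pullback.snd pX (aMap k (Algebra.adjoin k (i₀.unop : Set K)))
  haveI : CompactSpace ↥(pullback pX (aMap k (Algebra.adjoin k (i₀.unop : Set K)))) :=
    QuasiCompact.compactSpace_of_compactSpace (pullback.fst pX _)
  haveI : QuasiSeparatedSpace ↥(pullback pX (aMap k (Algebra.adjoin k (i₀.unop : Set K)))) :=
    quasiSeparatedSpace_of_quasiSeparated (pullback.fst pX _)
  let qY : Curv2.bc k X K ⟶ pullback pX (aMap k (Algebra.adjoin k (i₀.unop : Set K))) :=
    pullback.lift (Curv2.bcFst k X K) (Curv2.bcSnd k X K ≫ c.π.app i₀)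
      ((pullback.condition).trans ((congrArg (Curv2.bcSnd k X K ≫ ·) (fgCone_π_aMap k K i₀).symm).trans
        (Category.assoc _ _ _).symm))
  have hY : IsPullback qY (Curv2.bcSnd k X K) g₀ (c.π.app i₀) := by
    refine IsPullback.of_right (h₁₂ := pullback.fst pX _) (v₁₃ := pX)
      (h₂₂ := aMap k (Algebra.adjoin k (i₀.unop : Set K))) ?_ (pullback.lift_snd _ _ _)
      (IsPullback.of_hasPullback _ _)
    rw [pullback.lift_fst]
    convert IsPullback.of_hasPullback pX (aMap k K) using 1
    exact fgCone_π_aMap k K i₀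
  have hlim := LimLib.isLimitBcCone (LimLib.isLimitFgCone k K) hY
  obtain ⟨j, -, G, hG, ⟨e⟩⟩ :=
    FibreIndCons.exists_invertible_model hlim (Over.mk (𝟙 i₀)) L' hL'.1
  obtain ⟨l, hl⟩ := AmpleDesc.exists_isAmple_descend hlim (i₀ := j) hG
    (AmpleLib.isAmple_of_iso e.symm hL')
  refine ⟨l.left.left.unop, ?_⟩
  let i := l.left.left
  let w : pullback pX (aMap k (Algebra.adjoin k (i.unop : Set K))) ⟶
      pullback g₀ (D.map l.left.hom) :=
    pullback.lift (pullback.lift (pullback.fst pX _) (pullback.snd pX _ ≫ D.map l.left.hom)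
      ((pullback.condition).trans ((congrArg (pullback.snd pX _ ≫ ·)
        (fgDiagram_map_aMap k K l.left.hom).symm).trans (Category.assoc _ _ _).symm)))
      (pullback.snd pX _) (pullback.lift_snd _ _ _)
  have hw : w ≫ pullback.fst g₀ (D.map l.left.hom) ≫ pullback.fst pX _ = pullback.fst pX _ := by
    rw [pullback.lift_fst_assoc, pullback.lift_fst]
  haveI : IsAffineHom (pullback.fst pX (aMap k (Algebra.adjoin k (i.unop : Set K)))) :=
    MorphismProperty.pullback_fst _ _ inferInstance
  haveI : IsAffineHom (pullback.fst pX (aMap k (Algebra.adjoin k (i₀.unop : Set K)))) :=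
    MorphismProperty.pullback_fst _ _ inferInstance
  haveI : IsAffineHom (w ≫ pullback.fst g₀ (D.map l.left.hom) ≫ pullback.fst pX _) := by
    rw [hw]; infer_instance
  haveI : IsAffineHom w := IsAffineHom.of_comp w (pullback.fst g₀ (D.map l.left.hom) ≫ pullback.fst pX _)
  exact ⟨_, AmpleLib.isAmple_pullback_of_qaMor w (AmpleFam.Pullback.qaMor_of_isAffineHom w) hl⟩

/-- The projection of the base change along a finite field extension is finite locally free. -/
theorem isFinLocFreeOfDeg_fst (L : Type u) [Field L] [Algebra k L] [Module.Finite k L] :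
    IsFinite (pullback.fst pX (aMap k L)) ∧
      Mor2.IsFinLocFreeOfDeg (Module.finrank k L) (pullback.fst pX (aMap k L)) := by
  haveI : IsFinite (aMap k L) := by
    rw [IsFinite.SpecMap_iff]
    exact RingHom.finite_algebraMap.mpr inferInstance
  haveI : Flat (aMap k L) := by
    rw [HasRingHomProperty.Spec_iff (P := @Flat)]
    exact RingHom.flat_algebraMap_iff.mpr inferInstance
  haveI : LocallyOfFinitePresentation (aMap k L) := by
    rw [HasRingHomProperty.Spec_iff (P := @LocallyOfFinitePresentation)]
    exact RingHom.finitePresentation_algebraMap.mpr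
      (Algebra.FinitePresentation.of_finiteType.mp inferInstance)
  refine ⟨inferInstance, ⟨inferInstance, inferInstance, inferInstance⟩, fun x => ?_⟩
  rw [Scheme.Hom.finrank_pullback_fst, Scheme.Hom.finrank_SpecMap_algebraMap,
    Module.rankAtStalk_eq_finrank_of_free]
  rfl

/-- An ample module on a base change gives an ample module on a finite locally free cover. -/
theorem exists_finLocFree_isAmple (L' : (Curv2.bc k X K).Modules) (hL' : CohB1.IsAmple L') :
    ∃ (V : Scheme.{u}) (π : V ⟶ X) (d : ℕ) (_ : IsFinite π),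
      1 ≤ d ∧ Mor2.IsFinLocFreeOfDeg d π ∧ ∃ M : V.Modules, CohB1.IsAmple M := by
  haveI := hL'.2.1
  haveI := AmpleLib.isSeparated_of_isAmple hL'
  haveI := isSeparated_of_bc k X K inferInstance
  obtain ⟨s, M, hM⟩ := exists_isAmple_fg k X K L' hL'
  let A := Algebra.adjoin k (s : Set K)
  haveI : Algebra.FiniteType k A := (Subalgebra.fg_iff_finiteType _).1 ⟨s, rfl⟩
  obtain ⟨m, hm⟩ := Ideal.exists_maximal A
  letI := Ideal.Quotient.field m
  haveI : Algebra.FiniteType k (A ⧸ m) :=
    Algebra.FiniteType.of_surjective (Ideal.Quotient.mkₐ k m) Ideal.Quotient.mk_surjective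
  haveI : Module.Finite k (A ⧸ m) := finite_of_finite_type_of_isJacobsonRing k _
  let b : Spec (CommRingCat.of (A ⧸ m)) ⟶ Spec (CommRingCat.of A) :=
    Spec.map (CommRingCat.ofHom (Ideal.Quotient.mk m))
  have hb : b ≫ aMap k A = aMap k (A ⧸ m) := by
    rw [← Spec.map_comp]
    rfl
  obtain ⟨hfin, hdeg⟩ := isFinLocFreeOfDeg_fst k X (A ⧸ m)
  haveI := hfin
  let v : pullback pX (aMap k (A ⧸ m)) ⟶ pullback pX (aMap k A) :=
    pullback.lift (pullback.fst _ _) (pullback.snd _ _ ≫ b)
      ((pullback.condition).trans ((congrArg (pullback.snd pX _ ≫ ·) hb.symm).trans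
        (Category.assoc _ _ _).symm))
  have hv : v ≫ pullback.fst pX (aMap k A) = pullback.fst pX _ := pullback.lift_fst _ _ _
  haveI : IsAffineHom (v ≫ pullback.fst pX (aMap k A)) := by rw [hv]; infer_instance
  haveI : IsAffineHom v := IsAffineHom.of_comp v (pullback.fst pX (aMap k A))
  exact ⟨_, pullback.fst pX (aMap k (A ⧸ m)), Module.finrank k (A ⧸ m), hfin,
    Module.finrank_pos, hdeg,
    _, AmpleLib.isAmple_pullback_of_qaMor v (AmpleFam.Pullback.qaMor_of_isAffineHom v) hM⟩

end Groth.Agent.VarAmpleDesc
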