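import Groth.Agent.VarAmpleDesc.Basic
import Groth.Agent.FlatMor.AmpleBase
import Groth.Agent.ProjMorph.Ample
import Groth.Agent.S1555
import Mathlib.AlgebraicGeometry.Morphisms.LocalFlatDescent

/-!
Projective embeddings descend along extensions of the base field.
-/

set_option autoImplicit false
set_option backward.isDefEq.respectTransparency.types false
set_option linter.style.haveILetI false

universe u

open CategoryTheory CategoryTheory.Limits AlgebraicGeometry

noncomputable section

namespace Groth.Agent.VarAmpleDesc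

/-- An immersion of a base change into projective space gives one of the scheme itself. -/
theorem exists_immersion_of_bc {k : Type u} [Field k] {X : Scheme.{u}}
    (p : X ⟶ Spec (CommRingCat.of k)) (K : Type u) [Field K] [Algebra k K] {n : ℕ}
    (i : pullback p (aMap k K) ⟶ CohB1.ProjSpaceOver n (Spec (CommRingCat.of K))) [IsImmersion i]
    (hi : i ≫ CohB1.ProjSpaceOver.toBase n (Spec (CommRingCat.of K)) = pullback.snd p (aMap k K)) :
    ∃ (m : ℕ) (j : X ⟶ CohB1.ProjSpaceOver m (Spec (CommRingCat.of k))),
      IsImmersion j ∧ j ≫ CohB1.ProjSpaceOver.toBase m (Spec (CommRingCat.of k)) = p := by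
  haveI := Groth.Agent.ProjProper.Basic.isProper_toBase n (Spec (CommRingCat.of K))
  haveI : IsLocallyNoetherian (CohB1.ProjSpaceOver n (Spec (CommRingCat.of K))) :=
    LocallyOfFiniteType.isLocallyNoetherian (CohB1.ProjSpaceOver.toBase n (Spec (CommRingCat.of K)))
  haveI : CompactSpace ↥(CohB1.ProjSpaceOver n (Spec (CommRingCat.of K))) :=
    QuasiCompact.compactSpace_of_compactSpace (CohB1.ProjSpaceOver.toBase n (Spec (CommRingCat.of K)))
  haveI : IsNoetherian (CohB1.ProjSpaceOver n (Spec (CommRingCat.of K))) := ⟨⟩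
  haveI : QuasiCompact i :=
    (quasiCompact_iff i).mpr fun U _ _ => by
      haveI := i.isEmbedding.isInducing.noetherianSpace
      exact TopologicalSpace.NoetherianSpace.isCompact _
  obtain ⟨hft, hqc, L', hL'⟩ := FlatMor.AmpleBase.exists_ample_of_immersion
    ⟨_, ProjMorph.isAmple_structureModule⟩ (pullback.snd p (aMap k K)) i hi
  have hq := fpqc_aMap k K
  haveI := FpqcDesc.descendsAlong_quasiCompact.{u}
  haveI : QuasiCompact p :=
    MorphismProperty.of_pullback_snd_of_descendsAlong (P := @QuasiCompact)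
      (Q := FpqcDesc.FPQC) (f := p) hq hqc
  haveI : LocallyOfFiniteType p :=
    MorphismProperty.of_pullback_snd_of_descendsAlong (P := @LocallyOfFiniteType)
      (Q := @Surjective ⊓ @Flat ⊓ @QuasiCompact) (f := p) hq hft
  letI : X.Over (Spec (CommRingCat.of k)) := ⟨p⟩
  obtain ⟨L, hL⟩ := Groth.Agent.S1555.result k X K L' hL'
  obtain ⟨m, j, hj, -, hjp⟩ := FlatMor.AmpleBase.exists_immersion p hL
  exact ⟨m, j, hj, hjp⟩

/-- A closed immersion of a base change into projective space gives one of the scheme itself. -/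
theorem exists_closedImmersion_of_bc {k : Type u} [Field k] {X : Scheme.{u}}
    (p : X ⟶ Spec (CommRingCat.of k)) (K : Type u) [Field K] [Algebra k K] {n : ℕ}
    (i : pullback p (aMap k K) ⟶ CohB1.ProjSpaceOver n (Spec (CommRingCat.of K))) [IsClosedImmersion i]
    (hi : i ≫ CohB1.ProjSpaceOver.toBase n (Spec (CommRingCat.of K)) = pullback.snd p (aMap k K)) :
    ∃ (m : ℕ) (j : X ⟶ CohB1.ProjSpaceOver m (Spec (CommRingCat.of k))),
      IsClosedImmersion j ∧ j ≫ CohB1.ProjSpaceOver.toBase m (Spec (CommRingCat.of k)) = p := by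
  obtain ⟨m, j, hj, hjp⟩ := exists_immersion_of_bc p K i hi
  haveI := Groth.Agent.ProjProper.Basic.isProper_toBase n (Spec (CommRingCat.of K))
  haveI := FpqcDesc.descendsAlong_isProper.{u}
  have hp : IsProper (pullback.snd p (aMap k K)) := hi ▸ inferInstance
  haveI : IsProper (j ≫ CohB1.ProjSpaceOver.toBase m (Spec (CommRingCat.of k))) := by
    rw [hjp]
    exact MorphismProperty.of_pullback_snd_of_descendsAlong (P := @IsProper)
      (Q := FpqcDesc.FPQC) (f := p) (fpqc_aMap k K) hp
  exact ⟨m, j, FlatMor.AmpleBase.isClosedImmersion_of_comp_proper j, hjp⟩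

end Groth.Agent.VarAmpleDesc
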